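import Mathlib

/-!
# S3641 (Sylow numbers {18, 136, 153}): common definitions

`phi G` is the permutation representation of `G` on its Sylow 17-subgroups; `IsZ18 H` says that the
permutation group `H` of degree 18 is transitive and that a point stabiliser has a normal subgroup of
order 17 that is transitive (hence regular) on the remaining 17 points.
-/

set_option autoImplicit false

namespace Cfsg.Agent.Helper95.S18

instance fact17 : Fact (Nat.Prime 17) := ⟨by norm_num⟩
instance fact19 : Fact (Nat.Prime 19) := ⟨by norm_num⟩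
instance fact5 : Fact (Nat.Prime 5) := ⟨by norm_num⟩
instance fact3 : Fact (Nat.Prime 3) := ⟨by norm_num⟩
instance fact2 : Fact (Nat.Prime 2) := ⟨by norm_num⟩

/-- The permutation representation of `G` on the set of its Sylow 17-subgroups (by conjugation). -/
noncomputable def phi (G : Type*) [Group G] : G →* Equiv.Perm (Sylow 17 G) :=
  MulAction.toPermHom G (Sylow 17 G)

/-- A transitive permutation group of degree 18 in which the stabiliser of some point `ω` has a normal
subgroup `A` of order 17 that is transitive on the other 17 points. -/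
structure IsZ18 {Ω : Type*} (H : Subgroup (Equiv.Perm Ω)) : Prop where
  card : Nat.card Ω = 18
  trans : ∀ a b : Ω, ∃ h ∈ H, h a = b
  exA : ∃ (ω : Ω) (A : Subgroup (Equiv.Perm Ω)), A ≤ H ∧ Nat.card A = 17 ∧ (∀ a ∈ A, a ω = ω) ∧
      (∀ h ∈ H, h ω = ω → ∀ a ∈ A, h * a * h⁻¹ ∈ A) ∧
      (∀ x y : Ω, x ≠ ω → y ≠ ω → ∃ a ∈ A, a x = y)

end Cfsg.Agent.Helper95.S18
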