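import Mathlib
import Cfsg.Agent.Helper95.S18.Defs

set_option autoImplicit false

namespace Cfsg.Agent.Helper95.S18

/-- auxiliary: a prime dividing `17`, `135` or `152` -/
theorem AR_prime_cases {r : ℕ} (hr : r.Prime) :
    (r ∣ 17 → r = 17) ∧ (r ∣ 135 → r = 3 ∨ r = 5) ∧ (r ∣ 152 → r = 2 ∨ r = 19) := by
  refine ⟨fun h => ?_, fun h => ?_, fun h => ?_⟩
  · exact (Nat.prime_dvd_prime_iff_eq hr (by norm_num)).mp h
  · have h1 : r ∣ 3 ^ 3 * 5 := by norm_num; exact h
    rcases hr.dvd_mul.mp h1 with h2 | h2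
    · left
      exact (Nat.prime_dvd_prime_iff_eq hr (by norm_num)).mp (hr.dvd_of_dvd_pow h2)
    · right
      exact (Nat.prime_dvd_prime_iff_eq hr (by norm_num)).mp h2
  · have h1 : r ∣ 2 ^ 3 * 19 := by norm_num; exact h
    rcases hr.dvd_mul.mp h1 with h2 | h2
    · left
      exact (Nat.prime_dvd_prime_iff_eq hr (by norm_num)).mp (hr.dvd_of_dvd_pow h2)
    · right
      exact (Nat.prime_dvd_prime_iff_eq hr (by norm_num)).mp h2

/-- (AR) Arithmetic of the hypothesis: the Sylow numbers. -/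
theorem arith {G : Type*} [Group G] [Finite G]
    (hNS : {c : ℕ | ∃ r : ℕ, r.Prime ∧ r ∣ Nat.card G ∧ c = Nat.card (Sylow r G)} =
      ({18, 136, 153} : Set ℕ)) :
    Nat.card (Sylow 17 G) = 18 ∧ Nat.card (Sylow 2 G) = 153 ∧ Nat.card (Sylow 3 G) = 136 ∧
      (∀ r : ℕ, r.Prime → r ∣ Nat.card G → r = 2 ∨ r = 3 ∨ r = 5 ∨ r = 17 ∨ r = 19) ∧
      (5 ∣ Nat.card G → Nat.card (Sylow 5 G) = 136) ∧
      (19 ∣ Nat.card G → Nat.card (Sylow 19 G) = 153) := by
  have key : ∀ r : ℕ, r.Prime → r ∣ Nat.card G →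
      (Nat.card (Sylow r G) = 18 ∨ Nat.card (Sylow r G) = 136 ∨ Nat.card (Sylow r G) = 153) ∧
        r ∣ Nat.card (Sylow r G) - 1 ∧ Nat.card (Sylow r G) ∣ Nat.card G := by
    intro r hr hrd
    have : Fact r.Prime := ⟨hr⟩
    have hmem : Nat.card (Sylow r G) ∈ ({18, 136, 153} : Set ℕ) := by
      rw [← hNS]; exact ⟨r, hr, hrd, rfl⟩
    have hm : Nat.card (Sylow r G) = 18 ∨ Nat.card (Sylow r G) = 136 ∨
        Nat.card (Sylow r G) = 153 := by simpa using hmem
    refine ⟨hm, ?_, ?_⟩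
    · have h1 : Nat.card (Sylow r G) ≡ 1 [MOD r] := card_sylow_modEq_one r G
      exact (Nat.modEq_iff_dvd' (by rcases hm with h | h | h <;> omega)).mp h1.symm
    · obtain ⟨P⟩ : Nonempty (Sylow r G) := inferInstance
      exact (Sylow.card_dvd_index P).trans (Subgroup.index_dvd_card _)
  -- the prime with eighteen Sylow subgroups
  have h18 : (18 : ℕ) ∈ {c : ℕ | ∃ r : ℕ, r.Prime ∧ r ∣ Nat.card G ∧ c = Nat.card (Sylow r G)} := by
    rw [hNS]; simp
  obtain ⟨r, hr, hrd, hr18⟩ := h18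
  have hk := key r hr hrd
  have hr17 : r = 17 := by
    have h1 : r ∣ 17 := by
      have := hk.2.1
      rw [← hr18] at this
      simpa using this
    exact (AR_prime_cases hr).1 h1
  subst hr17
  have h17 : Nat.card (Sylow 17 G) = 18 := hr18.symm
  have hd18 : 18 ∣ Nat.card G := by
    have := hk.2.2
    rwa [h17] at this
  have h2d : 2 ∣ Nat.card G := dvd_trans (by norm_num) hd18
  have h3d : 3 ∣ Nat.card G := dvd_trans (by norm_num) hd18
  have k2 := key 2 Nat.prime_two h2d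
  have k3 := key 3 Nat.prime_three h3d
  have hn2 : Nat.card (Sylow 2 G) = 153 := by
    obtain ⟨h, hdv, -⟩ := k2
    rcases h with h | h | h
    · rw [h] at hdv; omega
    · rw [h] at hdv; omega
    · exact h
  have hn3 : Nat.card (Sylow 3 G) = 136 := by
    obtain ⟨h, hdv, -⟩ := k3
    rcases h with h | h | h
    · rw [h] at hdv; omega
    · exact h
    · rw [h] at hdv; omega
  refine ⟨h17, hn2, hn3, ?_, ?_, ?_⟩
  · intro s hs hsd
    obtain ⟨h, hdv, -⟩ := key s hs hsd
    obtain ⟨c1, c2, c3⟩ := AR_prime_cases hs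
    rcases h with h | h | h
    · rw [h] at hdv
      have := c1 (by simpa using hdv)
      omega
    · rw [h] at hdv
      rcases c2 (by simpa using hdv) with e | e <;> omega
    · rw [h] at hdv
      rcases c3 (by simpa using hdv) with e | e <;> omega
  · intro h5
    obtain ⟨h, hdv, -⟩ := key 5 (by norm_num) h5
    rcases h with h | h | h
    · rw [h] at hdv; omega
    · exact h
    · rw [h] at hdv; omega
  · intro h19
    obtain ⟨h, hdv, -⟩ := key 19 (by norm_num) h19
    rcases h with h | h | h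
    · rw [h] at hdv; omega
    · rw [h] at hdv; omega
    · exact h

end Cfsg.Agent.Helper95.S18
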