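import Mathlib

set_option autoImplicit false

namespace Cfsg.Agent.Helper95.S18

open scoped commutatorElement

/-- A nontrivial normal subgroup of a nilpotent group meets the centre nontrivially. -/
private theorem HY_normal_inf_center_ne_bot {G : Type*} [Group G] [Group.IsNilpotent G]
    (H : Subgroup G) [hH : H.Normal] (hne : H ≠ ⊥) : H ⊓ Subgroup.center G ≠ ⊥ := by
  classical
  obtain ⟨N, hN⟩ := Group.IsNilpotent.nilpotent G
  have hex : ∃ n, H ⊓ Subgroup.upperCentralSeries G n ≠ ⊥ :=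
    ⟨N, by rw [hN, inf_top_eq]; exact hne⟩
  have hn0 : Nat.find hex ≠ 0 := by
    intro h0
    have := Nat.find_spec hex
    rw [h0, Subgroup.upperCentralSeries_zero, inf_bot_eq] at this
    exact this rfl
  obtain ⟨k, hk⟩ := Nat.exists_eq_succ_of_ne_zero hn0
  have h1 : H ⊓ Subgroup.upperCentralSeries G (k + 1) ≠ ⊥ := by
    have := Nat.find_spec hex
    rwa [hk] at this
  have h2 : H ⊓ Subgroup.upperCentralSeries G k = ⊥ := by
    by_contra h
    exact Nat.find_min hex (by rw [hk]; exact Nat.lt_succ_self k) h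
  intro hbot
  apply h1
  rw [eq_bot_iff, ← hbot]
  intro x hx
  have hx1 : x ∈ H := (Subgroup.mem_inf.mp hx).1
  have hx2 : x ∈ Subgroup.upperCentralSeries G (k + 1) := (Subgroup.mem_inf.mp hx).2
  refine Subgroup.mem_inf.mpr ⟨hx1, ?_⟩
  rw [Subgroup.mem_center_iff]
  intro g
  have h3 : ⁅x, g⁆ ∈ Subgroup.upperCentralSeries G k :=
    (Subgroup.mem_upperCentralSeries_succ_iff.mp hx2) g
  have h4 : ⁅x, g⁆ ∈ H := by
    rw [commutatorElement_def]
    have : x * g * x⁻¹ * g⁻¹ = x * (g * x⁻¹ * g⁻¹) := by group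
    rw [this]
    exact H.mul_mem hx1 (hH.conj_mem _ (H.inv_mem hx1) g)
  have h5 : ⁅x, g⁆ ∈ H ⊓ Subgroup.upperCentralSeries G k := Subgroup.mem_inf.mpr ⟨h4, h3⟩
  rw [h2, Subgroup.mem_bot, commutatorElement_def] at h5
  have : x * g = g * x := by
    have h6 : x * g * x⁻¹ * g⁻¹ * (g * x) = g * x := by rw [h5, one_mul]
    rw [← h6]; group
  exact this.symm

/-- (HY) A normal subgroup of a centreless finite group that normalises every Sylow subgroup (all
primes) is trivial. -/
theorem eq_bot_of_le_normalizer_sylow {G : Type*} [Group G] [Finite G]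
    (hZ : Subgroup.center G = ⊥) (K : Subgroup G) [K.Normal]
    (h : ∀ (p : ℕ) [Fact p.Prime] (P : Sylow p G),
      K ≤ Subgroup.normalizer ((P : Subgroup G) : Set G)) : K = ⊥ := by
  classical
  by_contra hK
  have hcard : Nat.card K ≠ 1 := by
    intro h1
    exact hK (Subgroup.card_eq_one.mp h1)
  obtain ⟨r, hr, hrd⟩ := Nat.exists_prime_and_dvd hcard
  have : Fact r.Prime := ⟨hr⟩
  obtain ⟨k, hk⟩ := exists_prime_orderOf_dvd_card' r hrd
  have hkG : orderOf (k : G) = r := by rw [Subgroup.orderOf_coe, hk]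
  have hkp : IsPGroup r (Subgroup.zpowers (k : G)) := by
    apply IsPGroup.of_card (n := 1)
    rw [Nat.card_zpowers, hkG, pow_one]
  obtain ⟨R, hR⟩ := hkp.exists_le_sylow
  have hk1 : (k : G) ≠ 1 := by
    intro h1
    rw [h1, orderOf_one] at hkG
    exact hr.one_lt.ne hkG
  have hkX : (k : G) ∈ (R : Subgroup G) ⊓ K :=
    Subgroup.mem_inf.mpr ⟨hR (Subgroup.mem_zpowers _), k.2⟩
  have hXne : (R : Subgroup G) ⊓ K ≠ ⊥ := by
    intro hb
    rw [hb, Subgroup.mem_bot] at hkX
    exact hk1 hkX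
  have hXp : IsPGroup r ↥((R : Subgroup G) ⊓ K) := R.2.to_le inf_le_left
  -- `X` lies in every Sylow `r`-subgroup
  have hXle : ∀ R2 : Sylow r G, (R : Subgroup G) ⊓ K ≤ R2 := by
    intro R2
    have h1 : (R : Subgroup G) ⊓ K ≤ Subgroup.normalizer ((R2 : Subgroup G) : Set G) :=
      inf_le_right.trans (h r R2)
    have h2 : ((R : Subgroup G) ⊓ K) ⊓ Subgroup.normalizer ((R2 : Subgroup G) : Set G) =
        ((R : Subgroup G) ⊓ K) ⊓ R2 := hXp.inf_normalizer_sylow R2
    rw [inf_eq_left.mpr h1] at h2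
    exact inf_eq_left.mp h2.symm
  -- `X` is normal in `G`
  have hXn : ((R : Subgroup G) ⊓ K).Normal := by
    constructor
    intro x hx g
    refine Subgroup.mem_inf.mpr ⟨?_, ‹K.Normal›.conj_mem x (Subgroup.mem_inf.mp hx).2 g⟩
    have h1 : x ∈ ((g⁻¹ • R : Sylow r G) : Subgroup G) := hXle _ hx
    rw [Sylow.coe_subgroup_smul, Subgroup.mem_pointwise_smul_iff_inv_smul_mem] at h1
    simpa [MulAut.smul_def] using h1
  -- a nontrivial element of `X` central in `R`
  have : Group.IsNilpotent (R : Subgroup G) := R.2.isNilpotent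
  have hHn : (((R : Subgroup G) ⊓ K).subgroupOf (R : Subgroup G)).Normal := hXn.subgroupOf _
  have hHne : ((R : Subgroup G) ⊓ K).subgroupOf (R : Subgroup G) ≠ ⊥ := by
    intro hb
    rw [Subgroup.subgroupOf_eq_bot, disjoint_iff, inf_assoc, inf_comm K, ← inf_assoc,
      inf_idem] at hb
    exact hXne hb
  have hne := HY_normal_inf_center_ne_bot _ hHne
  obtain ⟨⟨u, hu⟩, hu1⟩ := (Subgroup.ne_bot_iff_exists_ne_one).mp hne
  have huX : (u : G) ∈ (R : Subgroup G) ⊓ K := Subgroup.mem_subgroupOf.mp (Subgroup.mem_inf.mp hu).1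
  have huZ : u ∈ Subgroup.center (R : Subgroup G) := (Subgroup.mem_inf.mp hu).2
  have hu1' : (u : G) ≠ 1 := by
    intro h1
    apply hu1
    apply Subtype.ext
    apply Subtype.ext
    exact h1
  -- the centraliser of `u` contains a Sylow subgroup for every prime
  have hRC : (R : Subgroup G) ≤ Subgroup.centralizer {(u : G)} := by
    intro y hy
    rw [Subgroup.mem_centralizer_singleton_iff]
    have := (Subgroup.mem_center_iff.mp huZ) ⟨y, hy⟩
    exact congrArg Subtype.val this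
  have hSC : ∀ (s : ℕ) [Fact s.Prime] (S : Sylow s G), s ≠ r →
      (S : Subgroup G) ≤ Subgroup.centralizer {(u : G)} := by
    intro s _ S hsr y hy
    rw [Subgroup.mem_centralizer_singleton_iff]
    have huN : (u : G) ∈ Subgroup.normalizer ((S : Subgroup G) : Set G) :=
      h s S (Subgroup.mem_inf.mp huX).2
    have hz1 : y * (u : G) * y⁻¹ * (u : G)⁻¹ ∈ (R : Subgroup G) ⊓ K :=
      Subgroup.mul_mem _ (hXn.conj_mem _ huX y) (Subgroup.inv_mem _ huX)
    have hz2 : y * (u : G) * y⁻¹ * (u : G)⁻¹ ∈ (S : Subgroup G) := by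
      have h1 : (u : G) * y⁻¹ * (u : G)⁻¹ ∈ (S : Subgroup G) :=
        (Subgroup.mem_normalizer_iff.mp huN y⁻¹).mp (Subgroup.inv_mem _ hy)
      have h2 : y * (u : G) * y⁻¹ * (u : G)⁻¹ = y * ((u : G) * y⁻¹ * (u : G)⁻¹) := by group
      rw [h2]
      exact Subgroup.mul_mem _ hy h1
    have hdisj : Disjoint ((R : Subgroup G) ⊓ K) (S : Subgroup G) :=
      IsPGroup.disjoint_of_ne r s (Ne.symm hsr) _ _ hXp S.2
    have hz : y * (u : G) * y⁻¹ * (u : G)⁻¹ = 1 := by
      have := Subgroup.mem_inf.mpr ⟨hz1, hz2⟩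
      rw [hdisj.eq_bot, Subgroup.mem_bot] at this
      exact this
    have h3 : y * (u : G) * y⁻¹ * (u : G)⁻¹ * ((u : G) * y) = (u : G) * y := by rw [hz, one_mul]
    rw [← h3]
    group
  have hC : Subgroup.centralizer {(u : G)} = ⊤ := by
    rw [← Subgroup.index_eq_one]
    by_contra hne1
    obtain ⟨s, hs, hsd⟩ := Nat.exists_prime_and_dvd hne1
    have : Fact s.Prime := ⟨hs⟩
    by_cases hsr : s = r
    · subst hsr
      exact R.not_dvd_index (hsd.trans (Subgroup.index_dvd_of_le hRC))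
    · let S : Sylow s G := default
      exact S.not_dvd_index (hsd.trans (Subgroup.index_dvd_of_le (hSC s S hsr)))
  have hcen : (u : G) ∈ Subgroup.center G := by
    rw [Subgroup.mem_center_iff]
    intro g
    have hg : g ∈ Subgroup.centralizer {(u : G)} := by rw [hC]; exact Subgroup.mem_top g
    rw [Subgroup.mem_centralizer_singleton_iff] at hg
    exact hg
  rw [hZ, Subgroup.mem_bot] at hcen
  exact hu1' hcen

end Cfsg.Agent.Helper95.S18
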