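import Mathlib
import Cfsg.Agent.Helper95.S18.Defs

/-!
# S3641, piece (IM) (written by helper47 for helper95, board #8163): the image of `G` in
`Sym(Syl_17 G)` when `n_17 = 18`
-/

set_option autoImplicit false

namespace Cfsg.Agent.Helper95.S18

variable {G : Type*} [Group G] [Finite G]

omit [Finite G] in
theorem phi_apply_im (g : G) (Q : Sylow 17 G) : phi G g Q = g • Q := rfl

/-- (IM3) The kernel of `phi` normalises every Sylow 17-subgroup. -/
theorem ker_le_normalizer (P : Sylow 17 G) :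
    (phi G).ker ≤ Subgroup.normalizer ((P : Subgroup G) : Set G) := by
  intro g hg
  rw [MonoidHom.mem_ker] at hg
  have h1 : g • P = P := by
    rw [← phi_apply_im, hg]
    rfl
  exact Sylow.smul_eq_iff_mem_normalizer.1 h1

/-- the image of a Sylow 17-subgroup is not trivial -/
theorem map_ne_bot_im (h18 : Nat.card (Sylow 17 G) = 18) (P : Sylow 17 G) :
    (P : Subgroup G).map (phi G) ≠ ⊥ := by
  intro hbot
  have hker : (P : Subgroup G) ≤ (phi G).ker := (Subgroup.map_eq_bot_iff _).1 hbot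
  have hall : ∀ Q : Sylow 17 G, Q = P := by
    intro Q
    have h1 : (P : Subgroup G) ≤ Subgroup.normalizer ((Q : Subgroup G) : Set G) :=
      hker.trans (ker_le_normalizer Q)
    have h2 : (P : Subgroup G) ≤ Q := by
      have h3 : (P : Subgroup G) ⊓ Subgroup.normalizer ((Q : Subgroup G) : Set G) =
          (P : Subgroup G) ⊓ Q := P.2.inf_normalizer_sylow Q
      rw [inf_eq_left.2 h1] at h3
      exact inf_eq_left.1 h3.symm
    exact Sylow.ext (P.3 Q.2 h2)
  have hsub : Subsingleton (Sylow 17 G) := ⟨fun a b => (hall a).trans (hall b).symm⟩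
  have h1 : Nat.card (Sylow 17 G) ≤ 1 := Finite.card_le_one_iff_subsingleton.2 hsub
  omega

/-- (IM2) The image of a Sylow 17-subgroup has order 17. -/
theorem card_map_sylow (h18 : Nat.card (Sylow 17 G) = 18) (P : Sylow 17 G) :
    Nat.card ((P : Subgroup G).map (phi G)) = 17 := by
  have hp : IsPGroup 17 ((P : Subgroup G).map (phi G)) := P.2.map (phi G)
  obtain ⟨k, hk⟩ := IsPGroup.iff_card.1 hp
  have hdvd : Nat.card ((P : Subgroup G).map (phi G)) ∣ Nat.card (Equiv.Perm (Sylow 17 G)) :=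
    Subgroup.card_subgroup_dvd_card _
  rw [Nat.card_perm, h18, hk] at hdvd
  rw [hk]
  match k, hk, hdvd with
  | 0, hk, _ =>
    exfalso
    rw [pow_zero] at hk
    exact map_ne_bot_im h18 P (Subgroup.card_eq_one.1 hk)
  | 1, _, _ => norm_num
  | (j + 2), _, hdvd =>
    exfalso
    have h2 : 17 ^ 2 ∣ Nat.factorial 18 := dvd_trans (pow_dvd_pow 17 (by omega)) hdvd
    revert h2
    decide

/-- (IM1) With exactly 18 Sylow 17-subgroups, the image of `G` in `Sym(Syl_17 G)` is an `IsZ18`
group. -/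
theorem isZ18_range (h18 : Nat.card (Sylow 17 G) = 18) : IsZ18 (phi G).range := by
  obtain ⟨P⟩ : Nonempty (Sylow 17 G) := inferInstance
  refine ⟨h18, ?_, ⟨P, (P : Subgroup G).map (phi G), ?_, card_map_sylow h18 P, ?_, ?_, ?_⟩⟩
  · intro a b
    obtain ⟨g, hg⟩ := MulAction.exists_smul_eq G a b
    exact ⟨phi G g, ⟨g, rfl⟩, hg⟩
  · exact Subgroup.map_le_range (phi G) _
  · rintro _ ⟨x, hx, rfl⟩
    show x • P = P
    exact Sylow.smul_eq_iff_mem_normalizer.2 (Subgroup.le_normalizer hx)
  · rintro _ ⟨g, rfl⟩ hgP _ ⟨x, hx, rfl⟩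
    have hgN : g ∈ Subgroup.normalizer ((P : Subgroup G) : Set G) :=
      Sylow.smul_eq_iff_mem_normalizer.1 hgP
    refine ⟨g * x * g⁻¹, (Subgroup.mem_normalizer_iff.1 hgN x).1 hx, ?_⟩
    rw [map_mul, map_mul, map_inv]
  · intro x y hx hy
    have hsub : MulAction.orbit (P : Subgroup G) x ⊆ {Q | Q ≠ P} := by
      rintro _ ⟨⟨g, hg⟩, rfl⟩ h
      apply hx
      have h1 : g • x = P := h
      have h2 : g⁻¹ • P = P :=
        Sylow.smul_eq_iff_mem_normalizer.2 (Subgroup.le_normalizer (inv_mem hg))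
      rw [← h2, ← h1, inv_smul_smul]
    obtain ⟨n, hn⟩ := P.2.card_orbit x
    have hn0 : n ≠ 0 := by
      rintro rfl
      rw [pow_zero] at hn
      have hss : Subsingleton (MulAction.orbit (P : Subgroup G) x) :=
        Finite.card_le_one_iff_subsingleton.1 hn.le
      have hfix : x ∈ MulAction.fixedPoints (P : Subgroup G) (Sylow 17 G) := by
        intro g
        exact Subtype.ext_iff.1 (Subsingleton.elim
          (⟨g • x, MulAction.mem_orbit x g⟩ : MulAction.orbit (P : Subgroup G) x)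
          ⟨x, MulAction.mem_orbit_self x⟩)
      have hle : (P : Subgroup G) ≤ x := P.2.sylow_mem_fixedPoints_iff.1 hfix
      exact hx (Sylow.ext (P.3 x.2 hle))
    have hcard : ({Q : Sylow 17 G | Q ≠ P}).ncard = 17 := by
      have h1 : {Q : Sylow 17 G | Q ≠ P} = {P}ᶜ := by
        ext Q
        simp
      rw [h1, Set.ncard_compl, Set.ncard_singleton, h18]
    have horb : 17 ≤ (MulAction.orbit (P : Subgroup G) x).ncard := by
      rw [← Nat.card_coe_set_eq, hn]
      calc 17 = 17 ^ 1 := by norm_num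
        _ ≤ 17 ^ n := Nat.pow_le_pow_right (by norm_num) (Nat.one_le_iff_ne_zero.2 hn0)
    have heq : MulAction.orbit (P : Subgroup G) x = {Q | Q ≠ P} :=
      Set.eq_of_subset_of_ncard_le hsub (by rw [hcard]; exact horb) (Set.toFinite _)
    have hy' : y ∈ MulAction.orbit (P : Subgroup G) x := by
      rw [heq]
      exact hy
    obtain ⟨⟨g, hg⟩, hgy⟩ := hy'
    exact ⟨phi G g, ⟨g, hg, rfl⟩, hgy⟩

end Cfsg.Agent.Helper95.S18
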