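import Mathlib

set_option autoImplicit false

namespace Cfsg.Agent.Helper95.S18

variable {G G' : Type*} [Group G] [Group G'] [Finite G]

/-- the index of the normalizer of the image of a Sylow subgroup, pulled back -/
theorem link_index_normalizer_mapSurjective (f : G →* G') (hf : Function.Surjective f) (r : ℕ)
    [Fact r.Prime] (R : Sylow r G) :
    (Subgroup.normalizer (((R.mapSurjective hf : Sylow r G') : Subgroup G') : Set G')).index =
      (Subgroup.normalizer (((R : Subgroup G) ⊔ f.ker : Subgroup G) : Set G)).index := by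
  have h1 : ((R.mapSurjective hf : Sylow r G') : Subgroup G') = (R : Subgroup G).map f := rfl
  rw [h1, ← Subgroup.index_comap_of_surjective _ hf,
    Subgroup.comap_normalizer_eq_of_surjective _ hf, Subgroup.comap_map_eq]

omit [Finite G] in
theorem link_normalizer_le_normalizer_sup_ker (f : G →* G') (r : ℕ) [Fact r.Prime] (R : Sylow r G) :
    Subgroup.normalizer ((R : Subgroup G) : Set G) ≤
      Subgroup.normalizer (((R : Subgroup G) ⊔ f.ker : Subgroup G) : Set G) := by
  intro g hg
  rw [Subgroup.mem_normalizer_iff] at hg ⊢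
  intro x
  -- conjugation by `g` preserves `R` and `ker f`
  have hconj : ∀ g : G, (∀ y, y ∈ (R : Subgroup G) ↔ g * y * g⁻¹ ∈ (R : Subgroup G)) →
      ∀ x, x ∈ (R : Subgroup G) ⊔ f.ker → g * x * g⁻¹ ∈ (R : Subgroup G) ⊔ f.ker := by
    intro g hg x hx
    have : (f.ker).Normal := MonoidHom.normal_ker f
    rw [Subgroup.mem_sup_of_normal_right] at hx ⊢
    obtain ⟨a, ha, b, hb, rfl⟩ := hx
    refine ⟨g * a * g⁻¹, (hg a).mp ha, g * b * g⁻¹, ?_, by group⟩
    exact (MonoidHom.normal_ker f).conj_mem b hb g
  constructor
  · exact hconj g hg x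
  · intro hx
    have hg' : ∀ y, y ∈ (R : Subgroup G) ↔ g⁻¹ * y * g⁻¹⁻¹ ∈ (R : Subgroup G) := by
      intro y
      rw [hg (g⁻¹ * y * g⁻¹⁻¹)]
      have : g * (g⁻¹ * y * g⁻¹⁻¹) * g⁻¹ = y := by group
      rw [this]
    have := hconj g⁻¹ hg' _ hx
    have h2 : g⁻¹ * (g * x * g⁻¹) * g⁻¹⁻¹ = x := by group
    rwa [h2] at this

/-- (LK1) Sylow numbers of a quotient divide those of the group. -/
theorem card_sylow_dvd_of_surjective (f : G →* G') (hf : Function.Surjective f) (r : ℕ)
    [Fact r.Prime] : Nat.card (Sylow r G') ∣ Nat.card (Sylow r G) := by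
  have : Finite G' := Finite.of_surjective f hf
  obtain ⟨R⟩ : Nonempty (Sylow r G) := inferInstance
  have h1 : Nat.card (Sylow r G') =
      (Subgroup.normalizer (((R.mapSurjective hf : Sylow r G') : Subgroup G') : Set G')).index :=
    (R.mapSurjective hf).card_eq_index_normalizer
  have h2 : Nat.card (Sylow r G) = (Subgroup.normalizer ((R : Subgroup G) : Set G)).index :=
    R.card_eq_index_normalizer
  rw [h1, h2, link_index_normalizer_mapSurjective f hf r R]
  exact Subgroup.index_dvd_of_le (link_normalizer_le_normalizer_sup_ker f r R)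

/-- (LK2) If a quotient has as many Sylow `r`-subgroups as the group, the kernel normalises every
Sylow `r`-subgroup. -/
theorem ker_le_normalizer_of_card_sylow_eq (f : G →* G') (hf : Function.Surjective f) (r : ℕ)
    [Fact r.Prime] (h : Nat.card (Sylow r G') = Nat.card (Sylow r G)) (R : Sylow r G) :
    f.ker ≤ Subgroup.normalizer ((R : Subgroup G) : Set G) := by
  have : Finite G' := Finite.of_surjective f hf
  have h1 : Nat.card (Sylow r G') =
      (Subgroup.normalizer (((R.mapSurjective hf : Sylow r G') : Subgroup G') : Set G')).index :=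
    (R.mapSurjective hf).card_eq_index_normalizer
  have h2 : Nat.card (Sylow r G) = (Subgroup.normalizer ((R : Subgroup G) : Set G)).index :=
    R.card_eq_index_normalizer
  rw [h1, h2, link_index_normalizer_mapSurjective f hf r R] at h
  have hle := link_normalizer_le_normalizer_sup_ker f r R
  -- equal finite indices and inclusion give equality
  have heq : Subgroup.normalizer ((R : Subgroup G) : Set G) =
      Subgroup.normalizer (((R : Subgroup G) ⊔ f.ker : Subgroup G) : Set G) := by
    have hrel := Subgroup.relIndex_mul_index hle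
    have hpos : 0 < (Subgroup.normalizer (((R : Subgroup G) ⊔ f.ker : Subgroup G) : Set G)).index :=
      Nat.pos_of_ne_zero Subgroup.index_ne_zero_of_finite
    rw [← h] at hrel
    have h1' : (Subgroup.normalizer ((R : Subgroup G) : Set G)).relIndex
        (Subgroup.normalizer (((R : Subgroup G) ⊔ f.ker : Subgroup G) : Set G)) = 1 := by
      have : (Subgroup.normalizer ((R : Subgroup G) : Set G)).relIndex
          (Subgroup.normalizer (((R : Subgroup G) ⊔ f.ker : Subgroup G) : Set G)) *
          (Subgroup.normalizer (((R : Subgroup G) ⊔ f.ker : Subgroup G) : Set G)).index =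
          1 * (Subgroup.normalizer (((R : Subgroup G) ⊔ f.ker : Subgroup G) : Set G)).index := by
        rw [one_mul]; exact hrel
      exact Nat.eq_of_mul_eq_mul_right hpos this
    exact le_antisymm hle (Subgroup.relIndex_eq_one.mp h1')
  rw [heq]
  exact le_trans le_sup_right Subgroup.le_normalizer

end Cfsg.Agent.Helper95.S18
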