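import Mathlib

set_option autoImplicit false

namespace Cfsg.Agent.Helper95.S18

/-- the matrix `!![0, -1; 1, 7]` over `ZMod 17` -/
def nineMat : Matrix (Fin 2) (Fin 2) (ZMod 17) := !![0, -1; 1, 7]

theorem nineMat_det : nineMat.det = 1 := by
  rw [nineMat, Matrix.det_fin_two_of]
  decide

theorem nineMat_pow_three : nineMat ^ 3 = !![10, 3; 14, 6] := by
  rw [nineMat, pow_succ, pow_succ, pow_one, Matrix.mul_fin_two, Matrix.mul_fin_two]
  decide

theorem nineMat_pow_nine : nineMat ^ 9 = 1 := by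
  have h : nineMat ^ 9 = (nineMat ^ 3) ^ 3 := by rw [← pow_mul]
  rw [h, nineMat_pow_three, pow_succ, pow_succ, pow_one, Matrix.mul_fin_two, Matrix.mul_fin_two,
    Matrix.one_fin_two]
  decide

/-- the cube is not a scalar matrix -/
theorem nineMat_pow_three_not_scalar (r : ZMod 17) : Matrix.scalar (Fin 2) r ≠ nineMat ^ 3 := by
  intro h
  have h01 := congrFun (congrFun h 0) 1
  rw [nineMat_pow_three] at h01
  simp at h01
  revert h01
  decide

/-- the element of `SL₂(17)` -/
def nineSL : Matrix.SpecialLinearGroup (Fin 2) (ZMod 17) := ⟨nineMat, nineMat_det⟩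

theorem nineSL_pow_nine : nineSL ^ 9 = 1 := by
  apply Subtype.ext
  rw [Matrix.SpecialLinearGroup.coe_pow]
  exact nineMat_pow_nine

theorem nineSL_pow_three_not_mem_center :
    nineSL ^ 3 ∉ Subgroup.center (Matrix.SpecialLinearGroup (Fin 2) (ZMod 17)) := by
  intro h
  obtain ⟨r, -, hr⟩ := Matrix.SpecialLinearGroup.mem_center_iff.mp h
  apply nineMat_pow_three_not_scalar r
  rw [hr, Matrix.SpecialLinearGroup.coe_pow]
  rfl

/-- (N1) `PSL₂(17)` has an element of order 9 (image of `!![0, -1; 1, 7]`). -/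
theorem exists_orderOf_nine_psl :
    ∃ x : Matrix.ProjectiveSpecialLinearGroup (Fin 2) (ZMod 17), orderOf x = 9 := by
  refine ⟨QuotientGroup.mk' _ nineSL, ?_⟩
  have h9 : (9 : ℕ) = 3 ^ (1 + 1) := by norm_num
  have : Fact (Nat.Prime 3) := ⟨by norm_num⟩
  rw [h9]
  apply orderOf_eq_prime_pow
  · rw [pow_one, ← map_pow]
    intro h
    have := (QuotientGroup.eq_one_iff (N := Subgroup.center
      (Matrix.SpecialLinearGroup (Fin 2) (ZMod 17))) (nineSL ^ 3)).mp h
    exact nineSL_pow_three_not_mem_center this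
  · rw [← h9, ← map_pow, nineSL_pow_nine, map_one]

/-- (N2) `PGL₂(17)` has an element of order 9. -/
theorem exists_orderOf_nine_pgl :
    ∃ x : Matrix.ProjGenLinGroup (Fin 2) (ZMod 17), orderOf x = 9 := by
  refine ⟨Matrix.ProjGenLinGroup.mk (Matrix.SpecialLinearGroup.toGL nineSL), ?_⟩
  have h9 : (9 : ℕ) = 3 ^ (1 + 1) := by norm_num
  have : Fact (Nat.Prime 3) := ⟨by norm_num⟩
  rw [h9]
  apply orderOf_eq_prime_pow
  · rw [pow_one, ← map_pow, ← map_pow]
    intro h
    have hc := Matrix.ProjGenLinGroup.mk_eq_one.mp h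
    obtain ⟨r, hr⟩ := Matrix.GeneralLinearGroup.mem_center_iff_val_mem_range_scalar.mp hc
    apply nineMat_pow_three_not_scalar r
    rw [hr]
    rfl
  · rw [← h9, ← map_pow, ← map_pow, nineSL_pow_nine, map_one, map_one]

end Cfsg.Agent.Helper95.S18
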