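import Mathlib
import Cfsg.Agent.Helper95.S18.Defs
import Cfsg.Agent.Helper95.S18.Image
import Cfsg.Agent.Helper71.SylowCountCoprime

set_option autoImplicit false

namespace Cfsg.Agent.Helper95.S18

open Subgroup

variable {G : Type*} [Group G] [Finite G]

/-- `|A| * [B : A] = |B|` for `A ≤ B`. -/
theorem card_mul_relIndex' {A B : Subgroup G} (h : A ≤ B) :
    Nat.card A * A.relIndex B = Nat.card B := by
  rw [← Subgroup.relIndex_bot_left, ← Subgroup.relIndex_bot_left,
    Subgroup.relIndex_mul_relIndex _ _ _ bot_le h]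

/-- (NF) If `r` does not divide the index of the kernel `K` of `phi`, the Sylow `r`-subgroups lie in `K`
and the 17-part of their number is `[P₀ : C_{P₀}(T)]` (`P₀ = P ∩ K` the normal Sylow 17-subgroup of `K`),
which is `≡ 1 (mod r)`. -/
theorem sylow_count_17part (h18 : Nat.card (Sylow 17 G) = 18) (r : ℕ) [Fact r.Prime]
    (hr : ¬ r ∣ (phi G).ker.index) :
    ∃ a b j : ℕ, Nat.card (Sylow r G) = a * b ∧ ¬ 17 ∣ a ∧ b % r = 1 ∧ b = 17 ^ j := by
  classical
  have hrp : r.Prime := Fact.out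
  have h17p : Nat.Prime 17 := by norm_num
  obtain ⟨T⟩ : Nonempty (Sylow r G) := inferInstance
  obtain ⟨P⟩ : Nonempty (Sylow 17 G) := inferInstance
  set K : Subgroup G := (phi G).ker with hK
  -- the image of `P` has order 17
  have hmapP : Nat.card ((P : Subgroup G).map (phi G)) = 17 := card_map_sylow h18 P
  have hrelP : K.relIndex (P : Subgroup G) = 17 := by
    rw [hK, Subgroup.relIndex_ker, hmapP]
  -- `17 ∣ [G : K]` and `17 ^ 2 ∤ [G : K]`
  have hidx_range : K.index = Nat.card (phi G).range := Subgroup.index_ker _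
  have h17idx : 17 ∣ K.index := by
    rw [hidx_range]
    have h1 := Subgroup.card_dvd_of_le (Subgroup.map_le_range (phi G) (P : Subgroup G))
    rwa [hmapP] at h1
  have hr17 : r ≠ 17 := fun h => hr (h ▸ h17idx)
  have h289idx : ¬ 17 ^ 2 ∣ K.index := by
    intro hdvd
    have h1 : Nat.card (phi G).range ∣ Nat.card (Equiv.Perm (Sylow 17 G)) :=
      Subgroup.card_subgroup_dvd_card _
    rw [Nat.card_perm, h18] at h1
    rw [hidx_range] at hdvd
    have h2 : 17 ^ 2 ∣ Nat.factorial 18 := hdvd.trans h1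
    revert h2
    decide
  -- Step 1: `T ≤ K`
  have hTK : (T : Subgroup G) ≤ K := by
    rw [hK, ← Subgroup.map_eq_bot_iff]
    have hpg : IsPGroup r ((T : Subgroup G).map (phi G)) := T.isPGroup'.map _
    obtain ⟨k, hk⟩ := IsPGroup.iff_card.mp hpg
    have hdvd : Nat.card ((T : Subgroup G).map (phi G)) ∣ K.index := by
      rw [hidx_range]
      exact Subgroup.card_dvd_of_le (Subgroup.map_le_range _ _)
    rw [hk] at hdvd
    have hk0 : k = 0 := by
      by_contra hne
      exact hr ((dvd_pow_self r hne).trans hdvd)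
    rw [hk0, pow_zero] at hk
    exact Subgroup.card_eq_one.mp hk
  -- the subgroup `P0 = P ⊓ K`
  set P0 : Subgroup G := (P : Subgroup G) ⊓ K with hP0def
  have hKnorm : K.Normal := by rw [hK]; infer_instance
  have hKP : K ≤ normalizer ((P : Subgroup G) : Set G) := ker_le_normalizer P
  have hcardP : Nat.card (P : Subgroup G) = Nat.card P0 * 17 := by
    have h1 := card_mul_relIndex' (inf_le_left : P0 ≤ (P : Subgroup G))
    rw [Subgroup.inf_relIndex_left, hrelP] at h1
    exact h1.symm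
  have hP0pg : IsPGroup 17 P0 := P.isPGroup'.to_le inf_le_left
  have hP0K : P0 ≤ K := inf_le_right
  have hKP0 : K ≤ normalizer (P0 : Set G) := by
    intro x hx
    rw [mem_normalizer_iff]
    intro y
    have h1 := mem_normalizer_iff.mp (hKP hx) y
    have h2 : y ∈ K ↔ x * y * x⁻¹ ∈ K := (hKnorm.mem_comm_iff.trans (by
      rw [show x⁻¹ * (x * y) = y by group])).symm.trans (by rw [mul_assoc])
    rw [hP0def, mem_inf, mem_inf, ← h1, ← h2]
  -- `[K : P0]` is prime to 17
  have hx17 : ¬ 17 ∣ P0.relIndex K := by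
    intro hdvd
    have e1 : Nat.card P0 * P0.relIndex K = Nat.card K := card_mul_relIndex' hP0K
    have e2 : Nat.card K * K.index = Nat.card G := Subgroup.card_mul_index K
    have e3 : Nat.card (P : Subgroup G) * (P : Subgroup G).index = Nat.card G :=
      Subgroup.card_mul_index _
    have hPidx : ¬ 17 ∣ (P : Subgroup G).index := P.not_dvd_index
    have hpos : 0 < Nat.card P0 := Nat.card_pos
    have e4 : P0.relIndex K * K.index = 17 * (P : Subgroup G).index := by
      apply Nat.eq_of_mul_eq_mul_left hpos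
      rw [← mul_assoc, e1, e2, ← e3, hcardP]; ring
    obtain ⟨u, hu⟩ := hdvd
    obtain ⟨v, hv⟩ := h17idx
    rw [hu, hv] at e4
    apply hPidx
    refine ⟨u * v, ?_⟩
    have : 17 * (17 * (u * v)) = 17 * (P : Subgroup G).index := by rw [← e4]; ring
    exact (Nat.eq_of_mul_eq_mul_left (by norm_num) this).symm
  -- the normaliser of `T` and the Frattini argument
  set N : Subgroup G := normalizer ((T : Subgroup G) : Set G) with hN
  have hcardSyl : Nat.card (Sylow r G) = N.index := T.card_eq_index_normalizer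
  have hFr : N ⊔ K = ⊤ := by
    have h1 := Sylow.normalizer_sup_eq_top (T.subtype hTK)
    have h2 : ((T.subtype hTK : Sylow r K) : Subgroup K).map K.subtype = (T : Subgroup G) := by
      rw [Sylow.coe_subtype, Subgroup.subgroupOf_map_subtype, inf_eq_left.mpr hTK]
    rw [h2] at h1
    exact h1
  have hprod : Nat.card N * Nat.card K = Nat.card G * Nat.card (N ⊓ K : Subgroup G) := by
    have h1 := Cfsg.Agent.Helper10.card_sup_mul_card_inf N K
      (by rw [normalizer_eq_top]; exact le_top)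
    rw [hFr, Subgroup.card_top] at h1
    exact h1.symm
  have hKeq : Nat.card K = Nat.card (Sylow r G) * Nat.card (N ⊓ K : Subgroup G) := by
    have e1 : Nat.card N * N.index = Nat.card G := Subgroup.card_mul_index N
    have hpos : 0 < Nat.card N := Nat.card_pos
    apply Nat.eq_of_mul_eq_mul_left hpos
    rw [hprod, ← e1, hcardSyl]; ring
  -- the number `b`
  have hTP0 : (T : Subgroup G) ≤ normalizer (P0 : Set G) := hTK.trans hKP0
  obtain ⟨t, ht⟩ := IsPGroup.iff_card.mp hP0pg
  have hrP0 : ¬ r ∣ Nat.card P0 := by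
    rw [ht]
    intro hdvd
    exact hr17 ((Nat.prime_dvd_prime_iff_eq hrp h17p).mp (hrp.dvd_of_dvd_pow hdvd))
  have hmain := Cfsg.Agent.Helper71.card_sylow_sup_mul_card_centralizer T.isPGroup' hTP0 hrP0
  set b : ℕ := Nat.card (Sylow r ↥((T : Subgroup G) ⊔ P0)) with hb
  set C : Subgroup G := P0 ⊓ centralizer ((T : Subgroup G) : Set G) with hC
  have hbmod : b % r = 1 := by
    have h1 : b ≡ 1 [MOD r] := card_sylow_modEq_one r _
    rw [Nat.ModEq, Nat.mod_eq_of_lt hrp.one_lt] at h1
    exact h1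
  have hbdvd : b ∣ 17 ^ t := by rw [← ht]; exact Dvd.intro _ hmain
  obtain ⟨j, -, hj⟩ := (Nat.dvd_prime_pow h17p).mp hbdvd
  -- `C = P0 ⊓ N`
  have hdisj : (T : Subgroup G) ⊓ P0 = ⊥ :=
    Cfsg.Agent.Helper71.inf_eq_bot_of_isPGroup_of_not_dvd T.isPGroup' hrP0
  have hCN : C = P0 ⊓ (N ⊓ K) := by
    apply le_antisymm
    · intro x hx
      obtain ⟨hx1, hx2⟩ := mem_inf.mp hx
      exact mem_inf.mpr ⟨hx1, mem_inf.mpr ⟨(Subgroup.centralizer_le_normalizer (s := ((T : Subgroup G) : Set G))) hx2, hP0K hx1⟩⟩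
    · intro x hx
      obtain ⟨hx1, hx2⟩ := mem_inf.mp hx
      have hxN : x ∈ N := (mem_inf.mp hx2).1
      refine mem_inf.mpr ⟨hx1, ?_⟩
      rw [mem_centralizer_iff]
      intro y hy
      have hy' : y ∈ (T : Subgroup G) := hy
      -- the commutator `x * y * x⁻¹ * y⁻¹` lies in `T ⊓ P0 = ⊥`
      have h1 : x * y * x⁻¹ ∈ (T : Subgroup G) := (mem_normalizer_iff.mp hxN y).mp hy'
      have h2 : x * y * x⁻¹ * y⁻¹ ∈ (T : Subgroup G) := mul_mem h1 (inv_mem hy')
      have h3 : y * x⁻¹ * y⁻¹ ∈ P0 :=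
        (mem_normalizer_iff.mp (hTP0 hy') x⁻¹).mp (inv_mem hx1)
      have h4 : x * y * x⁻¹ * y⁻¹ ∈ P0 := by
        have : x * y * x⁻¹ * y⁻¹ = x * (y * x⁻¹ * y⁻¹) := by group
        rw [this]; exact mul_mem hx1 h3
      have h5 : x * y * x⁻¹ * y⁻¹ ∈ (T : Subgroup G) ⊓ P0 := mem_inf.mpr ⟨h2, h4⟩
      rw [hdisj, mem_bot] at h5
      have : x * y = y * x := by
        have h6 : x * y * x⁻¹ * y⁻¹ * (y * x) = y * x := by rw [h5, one_mul]
        rw [← h6]; group
      exact this.symm
  -- `[N ⊓ K : C]` divides `[K : P0]`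
  have hNKle : N ⊓ K ≤ normalizer (P0 : Set G) := inf_le_right.trans hKP0
  have hy : C.relIndex (N ⊓ K) ∣ P0.relIndex K := by
    rw [hCN, Subgroup.inf_relIndex_right,
      ← Cfsg.Agent.Helper10.relIndex_sup_right_of_le_normalizer (N ⊓ K) P0 hNKle]
    have hle : (N ⊓ K) ⊔ P0 ≤ K := sup_le inf_le_right hP0K
    exact Dvd.intro _ (Subgroup.relIndex_mul_relIndex _ _ _ le_sup_right hle)
  obtain ⟨a, ha⟩ := hy
  have hCle : C ≤ N ⊓ K := by rw [hCN]; exact inf_le_right
  have eC : Nat.card C * C.relIndex (N ⊓ K) = Nat.card (N ⊓ K : Subgroup G) :=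
    card_mul_relIndex' hCle
  have eK : Nat.card P0 * P0.relIndex K = Nat.card K := card_mul_relIndex' hP0K
  have hCpos : 0 < Nat.card C := Nat.card_pos
  have hypos : 0 < C.relIndex (N ⊓ K) := by
    rcases Nat.eq_zero_or_pos (C.relIndex (N ⊓ K)) with h0 | h0
    · rw [h0, mul_zero] at eC
      exact absurd eC.symm (Nat.card_pos.ne')
    · exact h0
  refine ⟨a, b, j, ?_, ?_, hbmod, hj⟩
  · -- `n_r = a * b`
    have e1 : Nat.card C * C.relIndex (N ⊓ K) * (b * a) =
        Nat.card C * C.relIndex (N ⊓ K) * Nat.card (Sylow r G) := by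
      have : Nat.card C * C.relIndex (N ⊓ K) * (b * a) =
          (b * Nat.card C) * (C.relIndex (N ⊓ K) * a) := by ring
      rw [this, hmain, ← ha, eK, hKeq, eC]; ring
    have := Nat.eq_of_mul_eq_mul_left (Nat.mul_pos hCpos hypos) e1
    rw [← this]; ring
  · intro h17a
    exact hx17 (ha ▸ (Dvd.dvd.mul_left h17a _))

end Cfsg.Agent.Helper95.S18
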