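import Mathlib
import Cfsg.Agent.Helper95.S18.Defs

/-!
# S3641: `IsZ18` groups have trivial three-point stabilisers and are 2-transitive
-/

set_option autoImplicit false

namespace Cfsg.Agent.Helper95.S18

variable {Ω : Type*} {H : Subgroup (Equiv.Perm Ω)}

/-- The complement of a point in a set of 18 elements has 17 elements. -/
theorem card_ne_of_card_eq_eighteen (hΩ : Nat.card Ω = 18) (ω : Ω) :
    Nat.card {x : Ω // x ≠ ω} = 17 := by
  classical
  have hfin : Finite Ω := Nat.finite_of_card_ne_zero (by rw [hΩ]; norm_num)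
  haveI := Fintype.ofFinite Ω
  rw [Nat.card_eq_fintype_card, Fintype.card_subtype_compl, Fintype.card_subtype_eq,
    ← Nat.card_eq_fintype_card, hΩ]

/-- The regular normal subgroup `A` of a point stabiliser acts freely off the fixed point. -/
theorem free_of_regular (hΩ : Nat.card Ω = 18) (ω : Ω) (A : Subgroup (Equiv.Perm Ω))
    (hA17 : Nat.card A = 17) (hAω : ∀ a ∈ A, a ω = ω)
    (hAtr : ∀ x y : Ω, x ≠ ω → y ≠ ω → ∃ a ∈ A, a x = y) :
    ∀ y : Ω, y ≠ ω → ∀ a ∈ A, a y = y → a = 1 := by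
  intro y hy
  have hAfin : Finite A := Nat.finite_of_card_ne_zero (by rw [hA17]; norm_num)
  have hne : ∀ a : A, (a : Equiv.Perm Ω) y ≠ ω := by
    intro a h
    have h1 : (a : Equiv.Perm Ω) y = (a : Equiv.Perm Ω) ω := by rw [h, hAω a a.2]
    exact hy ((a : Equiv.Perm Ω).injective h1)
  let f : A → {x : Ω // x ≠ ω} := fun a => ⟨(a : Equiv.Perm Ω) y, hne a⟩
  have hsurj : Function.Surjective f := by
    rintro ⟨w, hw⟩
    obtain ⟨a, ha, haw⟩ := hAtr y w hy hw
    exact ⟨⟨a, ha⟩, Subtype.ext haw⟩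
  have hbij : Function.Bijective f :=
    hsurj.bijective_of_nat_card_le (by rw [hA17, card_ne_of_card_eq_eighteen hΩ ω])
  intro a ha hay
  have h1 : f ⟨a, ha⟩ = f 1 := Subtype.ext (by simp [f, hay])
  have h2 := hbij.1 h1
  exact congrArg Subtype.val h2

/-- (ZF1) In an `IsZ18` group only the identity fixes three distinct points. -/
theorem IsZ18.fix3 (hZ : IsZ18 H) : ∀ h ∈ H, ∀ x y z : Ω, x ≠ y → y ≠ z → x ≠ z →
    h x = x → h y = y → h z = z → h = 1 := by
  obtain ⟨ω, A, hAH, hA17, hAω, hAnorm, hAtr⟩ := hZ.exA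
  have hAfin : Finite A := Nat.finite_of_card_ne_zero (by rw [hA17]; norm_num)
  have hfree := free_of_regular hZ.card ω A hA17 hAω hAtr
  -- special case: `h` fixes `ω`
  have key : ∀ h ∈ H, ∀ y z : Ω, y ≠ ω → z ≠ ω → y ≠ z → h ω = ω → h y = y → h z = z →
      h = 1 := by
    intro h hh y z hy hz hyz hhω hhy hhz
    obtain ⟨a0, ha0, ha0y⟩ := hAtr y z hy hz
    have hinvy : h⁻¹ y = y := by
      rw [Equiv.Perm.inv_eq_iff_eq]; exact hhy.symm
    have hb : h * a0 * h⁻¹ ∈ A := hAnorm h hh hhω a0 ha0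
    have hby : (a0⁻¹ * (h * a0 * h⁻¹)) y = y := by
      simp only [Equiv.Perm.mul_apply, hinvy, ha0y, hhz]
      rw [Equiv.Perm.inv_eq_iff_eq]; exact ha0y.symm
    have h1 : a0⁻¹ * (h * a0 * h⁻¹) = 1 :=
      hfree y hy _ (A.mul_mem (A.inv_mem ha0) hb) hby
    have hcomm : Commute h a0 := by
      have h2 : h * a0 * h⁻¹ = a0 := by
        have := congrArg (fun t => a0 * t) h1
        simpa [mul_assoc] using this
      have h3 : h * a0 = a0 * h := by
        have := congrArg (fun t => t * h) h2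
        simpa [mul_assoc] using this
      exact h3
    have ha0ne : a0 ≠ 1 := by
      intro h0
      apply hyz
      rw [← ha0y, h0, Equiv.Perm.one_apply]
    have hord : orderOf a0 = 17 := by
      have hdvd : orderOf a0 ∣ 17 := by
        rw [← hA17]; exact Subgroup.orderOf_dvd_natCard A ha0
      rcases (Nat.dvd_prime (by norm_num : Nat.Prime 17)).mp hdvd with h0 | h0
      · exact absurd (orderOf_eq_one_iff.mp h0) ha0ne
      · exact h0
    have hzp : Subgroup.zpowers a0 = A := by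
      apply Subgroup.eq_of_le_of_card_ge ((Subgroup.zpowers_le).mpr ha0)
      rw [Nat.card_zpowers, hord, hA17]
    apply Equiv.ext
    intro w
    rw [Equiv.Perm.one_apply]
    by_cases hw : w = ω
    · rw [hw, hhω]
    · obtain ⟨a, ha, haw⟩ := hAtr y w hy hw
      rw [← hzp] at ha
      obtain ⟨k, rfl⟩ := Subgroup.mem_zpowers_iff.mp ha
      have hc : Commute h (a0 ^ k) := hcomm.zpow_right k
      rw [← haw, ← Equiv.Perm.mul_apply, hc.eq, Equiv.Perm.mul_apply, hhy]
  intro h hh x y z hxy hyz hxz hx hy hz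
  obtain ⟨g, hg, hgx⟩ := hZ.trans x ω
  have hginv : ∀ w : Ω, g⁻¹ (g w) = w := fun w => by
    rw [Equiv.Perm.inv_eq_iff_eq]
  have hconj : ∀ w : Ω, h w = w → (g * h * g⁻¹) (g w) = g w := by
    intro w hw
    simp only [Equiv.Perm.mul_apply, hginv, hw]
  have h1 : g * h * g⁻¹ = 1 := by
    refine key (g * h * g⁻¹) (H.mul_mem (H.mul_mem hg hh) (H.inv_mem hg)) (g y) (g z) ?_ ?_ ?_ ?_
      (hconj y hy) (hconj z hz)
    · rw [← hgx]; exact fun e => hxy (g.injective e).symm
    · rw [← hgx]; exact fun e => hxz (g.injective e).symm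
    · exact fun e => hyz (g.injective e)
    · rw [← hgx]; exact hconj x hx
  have h2 : h = g⁻¹ * (g * h * g⁻¹) * g := by group
  rw [h2, h1]; group

/-- (ZF2) An `IsZ18` group is 2-transitive. -/
theorem IsZ18.two_trans (hZ : IsZ18 H) : ∀ a b c d : Ω, a ≠ b → c ≠ d →
    ∃ h ∈ H, h a = c ∧ h b = d := by
  obtain ⟨ω, A, hAH, hA17, hAω, hAnorm, hAtr⟩ := hZ.exA
  intro a b c d hab hcd
  obtain ⟨g1, hg1, hg1a⟩ := hZ.trans a ω
  obtain ⟨g2, hg2, hg2c⟩ := hZ.trans c ω
  have h1 : g1 b ≠ ω := by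
    rw [← hg1a]; exact fun e => hab (g1.injective e).symm
  have h2 : g2 d ≠ ω := by
    rw [← hg2c]; exact fun e => hcd (g2.injective e).symm
  obtain ⟨t, ht, htb⟩ := hAtr (g1 b) (g2 d) h1 h2
  refine ⟨g2⁻¹ * t * g1, H.mul_mem (H.mul_mem (H.inv_mem hg2) (hAH ht)) hg1, ?_, ?_⟩
  · simp only [Equiv.Perm.mul_apply, hg1a, hAω t ht]
    rw [Equiv.Perm.inv_eq_iff_eq]; exact hg2c.symm
  · simp only [Equiv.Perm.mul_apply, htb]
    rw [Equiv.Perm.inv_eq_iff_eq]

end Cfsg.Agent.Helper95.S18
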