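import Mathlib
import Cfsg.Agent.Helper95.S18.Defs
import Cfsg.Agent.Helper95.S18.ZFix

/-!
# S3641: the order of an `IsZ18` group
-/

set_option autoImplicit false

namespace Cfsg.Agent.Helper95.S18

variable {Ω : Type*} {H : Subgroup (Equiv.Perm Ω)}

/-- orbit–stabiliser for the transitive action on the 18 points -/
theorem IsZ18.card_stabilizer (hZ : IsZ18 H) (α : Ω) :
    18 * Nat.card (MulAction.stabilizer H α) = Nat.card H := by
  have horb : MulAction.orbit H α = Set.univ := by
    ext x
    simp only [Set.mem_univ, iff_true]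
    obtain ⟨h, hh, hx⟩ := hZ.trans α x
    exact ⟨⟨h, hh⟩, hx⟩
  have h1 := MulAction.index_stabilizer H α
  rw [horb, Set.ncard_univ, hZ.card] at h1
  rw [← h1]
  exact Subgroup.index_mul_card _

/-- orbit–stabiliser for the action of a point stabiliser on the 17 other points -/
theorem IsZ18.card_stabilizer_inf (hZ : IsZ18 H) (α β : Ω) (hαβ : α ≠ β) :
    17 * Nat.card ↥(MulAction.stabilizer H α ⊓ MulAction.stabilizer H β) =
      Nat.card (MulAction.stabilizer H α) := by
  classical
  have hfin : Finite Ω := Nat.finite_of_card_ne_zero (by rw [hZ.card]; norm_num)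
  have := Fintype.ofFinite Ω
  -- the orbit of `β` under the stabiliser of `α`
  have horb : MulAction.orbit (MulAction.stabilizer H α) β = {x : Ω | x ≠ α} := by
    ext x
    constructor
    · rintro ⟨g, rfl⟩
      intro h
      have h1 : ((g : H) : Equiv.Perm Ω) β = ((g : H) : Equiv.Perm Ω) α := by
        have hg : ((g : H) : Equiv.Perm Ω) α = α := g.2
        rw [hg]
        exact h
      exact hαβ ((((g : H) : Equiv.Perm Ω)).injective h1).symm
    · intro hx
      have hx' : x ≠ α := hx
      obtain ⟨h, hh, hα, hβ⟩ := hZ.two_trans α β α x hαβ (Ne.symm hx')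
      refine ⟨⟨⟨h, hh⟩, ?_⟩, ?_⟩
      · exact hα
      · exact hβ
  have hcard : ({x : Ω | x ≠ α} : Set Ω).ncard = 17 := by
    rw [← Nat.card_coe_set_eq]
    exact card_ne_of_card_eq_eighteen hZ.card α
  have h1 := MulAction.index_stabilizer (MulAction.stabilizer H α) β
  rw [horb, hcard] at h1
  have h2 := Subgroup.index_mul_card (MulAction.stabilizer (MulAction.stabilizer H α) β)
  rw [h1] at h2
  rw [← h2]
  congr 1
  -- the two descriptions of the two-point stabiliser
  refine Nat.card_congr
    { toFun := fun g => ⟨⟨(g : H), g.2.1⟩, g.2.2⟩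
      invFun := fun g => ⟨((g : MulAction.stabilizer H α) : H), ⟨(g : MulAction.stabilizer H α).2, g.2⟩⟩
      left_inv := fun g => rfl
      right_inv := fun g => rfl }

/-- (ZF3) The order of an `IsZ18` group is `18 * 17 * m` where `m ∣ 16` is the order of a two-point
stabiliser; the point stabilisers have order `17 * m`. -/
theorem IsZ18.card_eq (hZ : IsZ18 H) : ∃ m : ℕ, m ∣ 16 ∧ Nat.card H = 18 * 17 * m ∧
    (∀ α : Ω, Nat.card (MulAction.stabilizer H α) = 17 * m) ∧
    (∀ α β : Ω, α ≠ β →
      Nat.card ↥(MulAction.stabilizer H α ⊓ MulAction.stabilizer H β) = m) := by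
  classical
  have hfin : Finite Ω := Nat.finite_of_card_ne_zero (by rw [hZ.card]; norm_num)
  have := Fintype.ofFinite Ω
  have hΩ : Fintype.card Ω = 18 := by rw [← Nat.card_eq_fintype_card, hZ.card]
  -- two distinct points
  obtain ⟨α₀, β₀, h₀⟩ : ∃ a b : Ω, a ≠ b := by
    have : 1 < Fintype.card Ω := by rw [hΩ]; norm_num
    exact Fintype.exists_pair_of_one_lt_card this
  set m := Nat.card ↥(MulAction.stabilizer H α₀ ⊓ MulAction.stabilizer H β₀) with hm
  have hpair : ∀ α β : Ω, α ≠ β →
      18 * 17 * Nat.card ↥(MulAction.stabilizer H α ⊓ MulAction.stabilizer H β) = Nat.card H := by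
    intro α β hαβ
    rw [mul_assoc, hZ.card_stabilizer_inf α β hαβ, hZ.card_stabilizer α]
  have hall : ∀ α β : Ω, α ≠ β →
      Nat.card ↥(MulAction.stabilizer H α ⊓ MulAction.stabilizer H β) = m := by
    intro α β hαβ
    have h1 := hpair α β hαβ
    have h2 := hpair α₀ β₀ h₀
    rw [← h2] at h1
    exact Nat.eq_of_mul_eq_mul_left (by norm_num) h1
  refine ⟨m, ?_, (hpair α₀ β₀ h₀).symm, ?_, hall⟩
  · -- the two-point stabiliser acts freely on the 16 other points
    set C := MulAction.stabilizer H α₀ ⊓ MulAction.stabilizer H β₀ with hC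
    let X : Type _ := {x : Ω // x ≠ α₀ ∧ x ≠ β₀}
    have hfix : ∀ c : C, ((c : H) : Equiv.Perm Ω) α₀ = α₀ ∧ ((c : H) : Equiv.Perm Ω) β₀ = β₀ :=
      fun c => ⟨c.2.1, c.2.2⟩
    let _ : MulAction C X :=
      { smul := fun c x => ⟨((c : H) : Equiv.Perm Ω) (x : Ω), by
          constructor
          · intro h
            have h1 : ((c : H) : Equiv.Perm Ω) (x : Ω) = ((c : H) : Equiv.Perm Ω) α₀ := by
              rw [(hfix c).1]; exact h
            exact x.2.1 ((((c : H) : Equiv.Perm Ω)).injective h1)
          · intro h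
            have h1 : ((c : H) : Equiv.Perm Ω) (x : Ω) = ((c : H) : Equiv.Perm Ω) β₀ := by
              rw [(hfix c).2]; exact h
            exact x.2.2 ((((c : H) : Equiv.Perm Ω)).injective h1)⟩
        one_smul := fun x => Subtype.ext rfl
        mul_smul := fun c d x => Subtype.ext rfl }
    have hfree : ∀ x : X, MulAction.stabilizer C x = ⊥ := by
      intro x
      rw [eq_bot_iff]
      intro c hc
      have hcx : ((c : H) : Equiv.Perm Ω) (x : Ω) = (x : Ω) := congrArg Subtype.val hc
      have h1 : ((c : H) : Equiv.Perm Ω) = 1 :=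
        hZ.fix3 _ (c : H).2 α₀ β₀ (x : Ω) h₀ (Ne.symm x.2.2) (Ne.symm x.2.1) (hfix c).1 (hfix c).2 hcx
      rw [Subgroup.mem_bot]
      exact Subtype.ext (Subtype.ext h1)
    have hXcard : Nat.card X = 16 := by
      rw [Nat.card_eq_fintype_card, Fintype.card_subtype]
      have : (Finset.univ.filter (fun x : Ω => x ≠ α₀ ∧ x ≠ β₀)) = Finset.univ \ {α₀, β₀} := by
        ext x
        simp only [Finset.mem_filter, Finset.mem_univ, true_and, Finset.mem_sdiff,
          Finset.mem_insert, Finset.mem_singleton, not_or]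
      rw [this, Finset.card_sdiff_of_subset (Finset.subset_univ _), Finset.card_univ, hΩ,
        Finset.card_pair h₀]
    have he := Nat.card_congr (MulAction.selfEquivOrbitsQuotientProd hfree)
    rw [Nat.card_prod, hXcard] at he
    exact ⟨_, by rw [he, mul_comm]⟩
  · intro α
    obtain ⟨β, hβ⟩ : ∃ β : Ω, α ≠ β := by
      by_cases h : α = α₀
      · exact ⟨β₀, by rw [h]; exact h₀⟩
      · exact ⟨α₀, h⟩
    rw [← hZ.card_stabilizer_inf α β hβ, hall α β hβ]

end Cfsg.Agent.Helper95.S18
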