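import Mathlib
import Cfsg.Agent.Helper95.S18.Defs
import Cfsg.Agent.Helper95.S18.ZFix
import Cfsg.Agent.Helper95.S18.ZCard

set_option autoImplicit false
set_option linter.style.haveILetI false

namespace Cfsg.Agent.Helper95.S18

variable {Ω : Type*} {H : Subgroup (Equiv.Perm Ω)}

/-- the setwise stabiliser of the pair `{a, b}` (written out) -/
def pairStab (H : Subgroup (Equiv.Perm Ω)) (a b : Ω) : Subgroup H where
  carrier := {h | (h.1 a = a ∧ h.1 b = b) ∨ (h.1 a = b ∧ h.1 b = a)}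
  one_mem' := Or.inl ⟨rfl, rfl⟩
  mul_mem' := by
    rintro x y (⟨h1, h2⟩ | ⟨h1, h2⟩) (⟨h3, h4⟩ | ⟨h3, h4⟩)
    · left
      simp only [Subgroup.coe_mul, Equiv.Perm.mul_apply, h1, h2, h3, h4, and_self]
    · right
      simp only [Subgroup.coe_mul, Equiv.Perm.mul_apply, h1, h2, h3, h4, and_self]
    · right
      simp only [Subgroup.coe_mul, Equiv.Perm.mul_apply, h1, h2, h3, h4, and_self]
    · left
      simp only [Subgroup.coe_mul, Equiv.Perm.mul_apply, h1, h2, h3, h4, and_self]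
  inv_mem' := by
    rintro x (⟨h1, h2⟩ | ⟨h1, h2⟩)
    · left
      simp only [Subgroup.coe_inv]
      exact ⟨Equiv.Perm.inv_eq_iff_eq.mpr h1.symm, Equiv.Perm.inv_eq_iff_eq.mpr h2.symm⟩
    · right
      simp only [Subgroup.coe_inv]
      exact ⟨Equiv.Perm.inv_eq_iff_eq.mpr h2.symm, Equiv.Perm.inv_eq_iff_eq.mpr h1.symm⟩

theorem mem_pairStab {a b : Ω} {h : H} :
    h ∈ pairStab H a b ↔ (h.1 a = a ∧ h.1 b = b) ∨ (h.1 a = b ∧ h.1 b = a) := Iff.rfl

theorem mem_stab_inf {a b : Ω} {h : H} :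
    h ∈ MulAction.stabilizer H a ⊓ MulAction.stabilizer H b ↔ h.1 a = a ∧ h.1 b = b := by
  rw [Subgroup.mem_inf, MulAction.mem_stabilizer_iff, MulAction.mem_stabilizer_iff]
  rfl

theorem factorization_two_pow_mul (k n : ℕ) (hn : ¬ 2 ∣ n) (hn0 : n ≠ 0) :
    (2 ^ k * n).factorization 2 = k := by
  rw [Nat.factorization_mul (pow_ne_zero k two_ne_zero) hn0, Finsupp.add_apply,
    Nat.Prime.factorization_pow Nat.prime_two, Nat.factorization_eq_zero_of_not_dvd hn]
  simp

/-- (Z2) An `IsZ18` group of order `18 * 17 * m`, `m ∈ {8, 16}`, has exactly 153 Sylow 2-subgroups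
(the setwise stabiliser of a 2-set is a self-normalising Sylow 2-subgroup). -/
theorem IsZ18.card_sylow_two (hZ : IsZ18 H) (m : ℕ) (hm : m = 8 ∨ m = 16)
    (hH : Nat.card H = 18 * 17 * m) : Nat.card (Sylow 2 H) = 153 := by
  classical
  obtain ⟨m', -, hH', -, hC⟩ := hZ.card_eq
  have hmm : m' = m := by
    rw [hH] at hH'
    omega
  subst hmm
  haveI hfin : Finite Ω := Nat.finite_of_card_ne_zero (by rw [hZ.card]; norm_num)
  haveI : Finite H :=
    Nat.finite_of_card_ne_zero (by rw [hH]; rcases hm with rfl | rfl <;> norm_num)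
  obtain ⟨a, b, hab⟩ : ∃ a b : Ω, a ≠ b := by
    have h1 : 1 < Nat.card Ω := by rw [hZ.card]; norm_num
    haveI := Finite.one_lt_card_iff_nontrivial.mp h1
    exact exists_pair_ne Ω
  -- the swapper
  obtain ⟨s, hsH, hsa, hsb⟩ := hZ.two_trans a b b a hab hab.symm
  set C : Subgroup H := MulAction.stabilizer H a ⊓ MulAction.stabilizer H b with hCdef
  have hCcard : Nat.card C = m' := hC a b hab
  set D : Subgroup H := pairStab H a b with hDdef
  have hCD : C ≤ D := by
    intro h hh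
    exact Or.inl (mem_stab_inf.mp hh)
  have hsD : (⟨s, hsH⟩ : H) ∈ D := Or.inr ⟨hsa, hsb⟩
  -- `C` has index 2 in `D`
  have hidx : (C.subgroupOf D).index = 2 := by
    rw [Subgroup.index_eq_two_iff]
    refine ⟨⟨⟨s, hsH⟩, hsD⟩, fun d => ?_⟩
    rw [Subgroup.mem_subgroupOf, Subgroup.mem_subgroupOf, mem_stab_inf, mem_stab_inf]
    have hd := d.2
    rcases mem_pairStab.mp hd with ⟨h1, h2⟩ | ⟨h1, h2⟩
    · refine Or.inr ⟨⟨h1, h2⟩, ?_⟩
      rintro ⟨h3, -⟩
      simp only [Subgroup.coe_mul, Equiv.Perm.mul_apply, hsa, h2] at h3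
      exact hab h3.symm
    · refine Or.inl ⟨?_, ?_⟩
      · simp only [Subgroup.coe_mul, Equiv.Perm.mul_apply, hsa, hsb, h1, h2, and_self]
      · rintro ⟨h3, -⟩
        rw [h1] at h3
        exact hab h3.symm
  have hDcard : Nat.card D = 2 * m' := by
    have h1 := Subgroup.card_mul_index (C.subgroupOf D)
    rw [hidx, Nat.card_congr (Subgroup.subgroupOfEquivOfLe hCD).toEquiv, hCcard] at h1
    omega
  -- `D` is a Sylow 2-subgroup
  have hDsyl : Nat.card D = 2 ^ (Nat.card H).factorization 2 := by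
    rw [hDcard, hH]
    rcases hm with rfl | rfl
    · have : 18 * 17 * 8 = 2 ^ 4 * 153 := by norm_num
      rw [this, factorization_two_pow_mul 4 153 (by norm_num) (by norm_num)]
      norm_num
    · have : 18 * 17 * 16 = 2 ^ 5 * 153 := by norm_num
      rw [this, factorization_two_pow_mul 5 153 (by norm_num) (by norm_num)]
      norm_num
  let P : Sylow 2 H := Sylow.ofCard D hDsyl
  have hPD : (P : Subgroup H) = D := Sylow.coe_ofCard D hDsyl
  -- `D` is self-normalising
  have h3C : 2 < Nat.card C := by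
    rw [hCcard]
    rcases hm with rfl | rfl <;> norm_num
  have hnorm : Subgroup.normalizer (D : Set H) = D := by
    refine le_antisymm ?_ Subgroup.le_normalizer
    intro g hg
    by_contra hgD
    rw [Subgroup.mem_normalizer_iff] at hg
    -- three distinct elements of `C`
    haveI : Fintype C := Fintype.ofFinite _
    rw [Nat.card_eq_fintype_card, Fintype.two_lt_card_iff] at h3C
    obtain ⟨x, y, z, hxy, hxz, hyz⟩ := h3C
    -- two distinct nonidentity elements
    obtain ⟨c1, c2, hc1, hc2, hc12⟩ : ∃ c1 c2 : C, c1 ≠ 1 ∧ c2 ≠ 1 ∧ c1 ≠ c2 := by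
      by_cases hx : x = 1
      · refine ⟨y, z, ?_, ?_, hyz⟩
        · rintro rfl; exact hxy hx
        · rintro rfl; exact hxz hx
      · by_cases hy : y = 1
        · refine ⟨x, z, hx, ?_, hxz⟩
          rintro rfl; exact hyz hy
        · exact ⟨x, y, hx, hy, hxy⟩
    -- a nonidentity element of `C` conjugated by `g` swaps `a` and `b`
    have hga_ne : g.1 a ≠ g.1 b := fun h => hab (g.1.injective h)
    have hnotD : ¬ ((g.1 a = a ∧ g.1 b = b) ∨ (g.1 a = b ∧ g.1 b = a)) := hgD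
    have key : ∀ c : H, c ∈ C → (g * c * g⁻¹).1 a = a → (g * c * g⁻¹).1 b = b → c = 1 := by
      intro c hc h1 h2
      obtain ⟨hca, hcb⟩ := mem_stab_inf.mp hc
      have h3 : (g * c * g⁻¹).1 (g.1 a) = g.1 a := by
        show g.1 (c.1 (g.1⁻¹ (g.1 a))) = g.1 a
        rw [show g.1⁻¹ (g.1 a) = a from by simp, hca]
      have h4 : (g * c * g⁻¹).1 (g.1 b) = g.1 b := by
        show g.1 (c.1 (g.1⁻¹ (g.1 b))) = g.1 b
        rw [show g.1⁻¹ (g.1 b) = b from by simp, hcb]
      have hone : (g * c * g⁻¹).1 = 1 := by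
        by_cases h5 : g.1 a = a ∨ g.1 a = b
        · -- then `g b` is a third point
          have h6 : g.1 b ≠ a ∧ g.1 b ≠ b := by
            rcases h5 with h5 | h5
            · refine ⟨fun h => hga_ne (h5.trans h.symm), fun h => hnotD (Or.inl ⟨h5, h⟩)⟩
            · refine ⟨fun h => hnotD (Or.inr ⟨h5, h⟩), fun h => hga_ne (h5.trans h.symm)⟩
          exact hZ.fix3 _ (g * c * g⁻¹).2 a b (g.1 b) hab (Ne.symm h6.2) (Ne.symm h6.1) h1 h2 h4
        · push Not at h5
          exact hZ.fix3 _ (g * c * g⁻¹).2 a b (g.1 a) hab (Ne.symm h5.2) (Ne.symm h5.1) h1 h2 h3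
      have h7 : g * c * g⁻¹ = 1 := Subtype.ext hone
      have h8 : c = g⁻¹ * (g * c * g⁻¹) * g := by group
      rw [h8, h7]
      group
    have hswap : ∀ c : H, c ∈ C → c ≠ 1 →
        (g * c * g⁻¹).1 a = b ∧ (g * c * g⁻¹).1 b = a := by
      intro c hc hc1
      have hcD : g * c * g⁻¹ ∈ D := (hg c).mp (hCD hc)
      rcases mem_pairStab.mp hcD with ⟨h1, h2⟩ | h
      · exact absurd (key c hc h1 h2) hc1
      · exact h
    have hc1' : (c1 : H) ≠ 1 := fun h => hc1 (Subtype.ext h)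
    have hc2' : (c2 : H) ≠ 1 := fun h => hc2 (Subtype.ext h)
    obtain ⟨h1a, h1b⟩ := hswap c1 c1.2 hc1'
    obtain ⟨h2a, h2b⟩ := hswap c2 c2.2 hc2'
    have h9 : (c1 : H)⁻¹ * c2 = 1 := by
      apply key _ (C.mul_mem (C.inv_mem c1.2) c2.2)
      · have : g * ((c1 : H)⁻¹ * c2) * g⁻¹ = (g * c1 * g⁻¹)⁻¹ * (g * c2 * g⁻¹) := by group
        rw [this]
        simp only [Subgroup.coe_mul, Subgroup.coe_inv, Equiv.Perm.mul_apply] at h1a h1b h2a h2b ⊢
        rw [h2a, Equiv.Perm.inv_eq_iff_eq]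
        exact h1a.symm
      · have : g * ((c1 : H)⁻¹ * c2) * g⁻¹ = (g * c1 * g⁻¹)⁻¹ * (g * c2 * g⁻¹) := by group
        rw [this]
        simp only [Subgroup.coe_mul, Subgroup.coe_inv, Equiv.Perm.mul_apply] at h1a h1b h2a h2b ⊢
        rw [h2b, Equiv.Perm.inv_eq_iff_eq]
        exact h1b.symm
    apply hc12
    apply Subtype.ext
    exact inv_mul_eq_one.mp h9
  -- count
  rw [Sylow.card_eq_index_normalizer P]
  show (Subgroup.normalizer ((P : Subgroup H) : Set H)).index = 153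
  rw [hPD, hnorm]
  have h1 := Subgroup.card_mul_index D
  rw [hDcard, hH] at h1
  rcases hm with rfl | rfl <;> omega

end Cfsg.Agent.Helper95.S18
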