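import Mathlib
import Cfsg.Agent.Helper95.S18.Defs
import Cfsg.Agent.Helper95.S18.ZFix
import Cfsg.Agent.Helper95.S18.ZCard

set_option autoImplicit false

namespace Cfsg.Agent.Helper95.S18

variable {Ω : Type*} {H : Subgroup (Equiv.Perm Ω)}

/-- A finite group acting freely on a finite set has order dividing the size of the set. -/
theorem z3_card_dvd_of_free {K : Type*} [Group K] [Finite K] {α : Type*} [Finite α]
    [MulAction K α]
    (hfree : ∀ (k : K) (a : α), k • a = a → k = 1) : Nat.card K ∣ Nat.card α := by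
  classical
  have e := MulAction.selfEquivSigmaOrbitsQuotientStabilizer K α
  rw [Nat.card_congr e]
  haveI : Fintype (MulAction.orbitRel.Quotient K α) := Fintype.ofFinite _
  rw [Nat.card_sigma]
  apply Finset.dvd_sum
  intro ω _
  have hbot : MulAction.stabilizer K ω.out = ⊥ := by
    rw [eq_bot_iff]
    intro k hk
    exact hfree k _ hk
  rw [hbot, ← Subgroup.index_eq_card, Subgroup.index_bot]

/-- (Z3) In an `IsZ18` group of order `18 * 17 * m`, `m ∈ {8, 16}`, containing an element of order 9,
the normaliser of a Sylow 3-subgroup has order dividing 36. -/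
theorem IsZ18.card_normalizer_sylow_three_dvd (hZ : IsZ18 H) (m : ℕ) (hm : m = 8 ∨ m = 16)
    (hH : Nat.card H = 18 * 17 * m) (hx : ∃ x : H, orderOf x = 9) (R : Sylow 3 H) :
    Nat.card (Subgroup.normalizer ((R : Subgroup H) : Set H)) ∣ 36 := by
  classical
  obtain ⟨x, hx9⟩ := hx
  have : Finite Ω := Nat.finite_of_card_ne_zero (by rw [hZ.card]; norm_num)
  have : Finite H := Nat.finite_of_card_ne_zero (by
    rw [hH]; rcases hm with rfl | rfl <;> norm_num)
  -- point stabilisers have order `17 * m`
  obtain ⟨m', -, hHm', hstab, -⟩ := hZ.card_eq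
  have hmm : m' = m := by
    have : 18 * 17 * m' = 18 * 17 * m := by rw [← hHm', hH]
    omega
  subst hmm
  -- elements of 3-power order act fixed-point-freely
  have hfpf : ∀ h : H, h ^ 9 = 1 → ∀ a : Ω, (h : Equiv.Perm Ω) a = a → h = 1 := by
    intro h h9 a ha
    have hmem : h ∈ MulAction.stabilizer H a := by
      rw [MulAction.mem_stabilizer_iff]
      exact ha
    have h1 : orderOf (⟨h, hmem⟩ : MulAction.stabilizer H a) ∣ 17 * m' := by
      rw [← hstab a]
      exact orderOf_dvd_natCard _
    have h2 : orderOf (⟨h, hmem⟩ : MulAction.stabilizer H a) ∣ 9 := by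
      apply orderOf_dvd_of_pow_eq_one
      apply Subtype.ext
      simpa using h9
    have h3 : orderOf (⟨h, hmem⟩ : MulAction.stabilizer H a) ∣ Nat.gcd (17 * m') 9 :=
      Nat.dvd_gcd h1 h2
    have h4 : Nat.gcd (17 * m') 9 = 1 := by
      rcases hm with rfl | rfl <;> norm_num
    rw [h4, Nat.dvd_one, orderOf_eq_one_iff] at h3
    exact congrArg Subtype.val h3
  -- the cyclic subgroup `X` generated by `x`
  set X : Subgroup H := Subgroup.zpowers x with hX
  have hXcard : Nat.card X = 9 := by rw [hX, Nat.card_zpowers, hx9]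
  have hXp : IsPGroup 3 X := IsPGroup.of_card (n := 2) (by rw [hXcard]; norm_num)
  obtain ⟨P, hXP⟩ := hXp.exists_le_sylow
  -- `|H|` is not divisible by 27
  have h27 : ¬ 27 ∣ Nat.card H := by
    rw [hH]; rcases hm with rfl | rfl <;> norm_num
  have hPcard : Nat.card P = 9 := by
    obtain ⟨n, hn⟩ := P.2.exists_card_eq
    have hdvd : Nat.card P ∣ Nat.card H := Subgroup.card_subgroup_dvd_card _
    have h9dvd : 9 ∣ Nat.card P := by
      rw [← hXcard]; exact Subgroup.card_dvd_of_le hXP
    rw [hn] at hdvd h9dvd ⊢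
    have hn3 : n < 3 := by
      by_contra hcon
      rw [not_lt] at hcon
      exact h27 (dvd_trans (pow_dvd_pow 3 hcon) hdvd)
    interval_cases n <;> simp_all
  have hPX : (P : Subgroup H) = X :=
    (Subgroup.eq_of_le_of_card_ge hXP (by rw [hPcard, hXcard])).symm
  -- the normalisers of `R` and `P` have the same order
  have hNRP : Nat.card (Subgroup.normalizer ((R : Subgroup H) : Set H)) =
      Nat.card (Subgroup.normalizer ((P : Subgroup H) : Set H)) := by
    have hi : (Subgroup.normalizer ((R : Subgroup H) : Set H)).index =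
        (Subgroup.normalizer ((P : Subgroup H) : Set H)).index :=
      (R.card_eq_index_normalizer).symm.trans P.card_eq_index_normalizer
    have h1 := (Subgroup.normalizer ((R : Subgroup H) : Set H)).card_mul_index
    have h2 := (Subgroup.normalizer ((P : Subgroup H) : Set H)).card_mul_index
    have hne : (Subgroup.normalizer ((P : Subgroup H) : Set H)).index ≠ 0 :=
      Subgroup.index_ne_zero_of_finite
    rw [hi] at h1
    exact Nat.eq_of_mul_eq_mul_right (Nat.pos_of_ne_zero hne) (h1.trans h2.symm)
  rw [hNRP, hPX]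
  -- the main argument
  have hkey : ((Subgroup.centralizer (X : Set H)).subgroupOf
      (Subgroup.normalizer (X : Set H))).index ∣ 6 := by
    have key := Subgroup.card_dvd_of_injective _
      (QuotientGroup.kerLift_injective X.normalizerMonoidHom)
    rw [Subgroup.normalizerMonoidHom_ker, ← Subgroup.index] at key
    have hcyc : IsCyclic X := by rw [hX]; infer_instance
    rw [IsCyclic.card_mulAut X, hXcard] at key
    have ht : Nat.totient 9 = 6 := by decide
    rwa [ht] at key
  have hC : Nat.card (Subgroup.centralizer (X : Set H)) ∣ 18 := by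
    rw [← hZ.card]
    apply z3_card_dvd_of_free
    intro c a hca
    have hxX : x ∈ X := Subgroup.mem_zpowers x
    have hcomm : x * (c : H) = (c : H) * x := (Subgroup.mem_centralizer_iff.mp c.2) x hxX
    have hcommP : (x : Equiv.Perm Ω) * ((c : H) : Equiv.Perm Ω) =
        ((c : H) : Equiv.Perm Ω) * (x : Equiv.Perm Ω) := by
      have := congrArg (Subtype.val) hcomm
      simpa using this
    have hca' : ((c : H) : Equiv.Perm Ω) a = a := hca
    have hx1 : x ≠ 1 := by
      intro h; rw [h, orderOf_one] at hx9; omega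
    have hx2 : x ^ 2 ≠ 1 := by
      intro h
      have := orderOf_dvd_of_pow_eq_one h
      rw [hx9] at this; omega
    have hxa : (x : Equiv.Perm Ω) a ≠ a := by
      intro h
      exact hx1 (hfpf x (by rw [← hx9]; exact pow_orderOf_eq_one x) a h)
    have hxxa : (x : Equiv.Perm Ω) ((x : Equiv.Perm Ω) a) ≠ a := by
      intro h
      apply hx2
      apply hfpf (x ^ 2) _ a
      · simpa [pow_two] using h
      · rw [← pow_mul, show 2 * 9 = 9 * 2 by norm_num, pow_mul, ← hx9, pow_orderOf_eq_one,
          one_pow]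
    have hxxa' : (x : Equiv.Perm Ω) ((x : Equiv.Perm Ω) a) ≠ (x : Equiv.Perm Ω) a := by
      intro h
      exact hxa ((x : Equiv.Perm Ω).injective h)
    have hc1 : ((c : H) : Equiv.Perm Ω) ((x : Equiv.Perm Ω) a) = (x : Equiv.Perm Ω) a := by
      have := congrArg (fun σ : Equiv.Perm Ω => σ a) hcommP
      simp only [Equiv.Perm.mul_apply] at this
      rw [← this, hca']
    have hc2 : ((c : H) : Equiv.Perm Ω) ((x : Equiv.Perm Ω) ((x : Equiv.Perm Ω) a)) =
        (x : Equiv.Perm Ω) ((x : Equiv.Perm Ω) a) := by
      have := congrArg (fun σ : Equiv.Perm Ω => σ ((x : Equiv.Perm Ω) a)) hcommP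
      simp only [Equiv.Perm.mul_apply] at this
      rw [← this, hc1]
    have := hZ.fix3 ((c : H) : Equiv.Perm Ω) (c : H).2 a ((x : Equiv.Perm Ω) a)
      ((x : Equiv.Perm Ω) ((x : Equiv.Perm Ω) a)) (Ne.symm hxa) (Ne.symm hxxa') (Ne.symm hxxa)
      hca' hc1 hc2
    apply Subtype.ext
    apply Subtype.ext
    simpa using this
  have hCle : Subgroup.centralizer (X : Set H) ≤ Subgroup.normalizer (X : Set H) :=
    Subgroup.centralizer_le_normalizer _
  have hcardeq : Nat.card ((Subgroup.centralizer (X : Set H)).subgroupOf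
      (Subgroup.normalizer (X : Set H))) = Nat.card (Subgroup.centralizer (X : Set H)) :=
    Nat.card_congr (Subgroup.subgroupOfEquivOfLe hCle).toEquiv
  have h108 : Nat.card (Subgroup.normalizer (X : Set H)) ∣ 108 := by
    rw [← ((Subgroup.centralizer (X : Set H)).subgroupOf
      (Subgroup.normalizer (X : Set H))).card_mul_index, hcardeq]
    exact mul_dvd_mul hC hkey
  have hdvdH : Nat.card (Subgroup.normalizer (X : Set H)) ∣ Nat.card H :=
    Subgroup.card_subgroup_dvd_card _
  have hg := Nat.dvd_gcd h108 hdvdH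
  rw [hH] at hg
  rcases hm with rfl | rfl
  · have : Nat.gcd 108 (18 * 17 * 8) = 36 := by norm_num
    rwa [this] at hg
  · have : Nat.gcd 108 (18 * 17 * 16) = 36 := by norm_num
    rwa [this] at hg

end Cfsg.Agent.Helper95.S18
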