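import Mathlib
import Cfsg.Agent.S0732
import Cfsg.Agent.Helper95.S18.Defs
import Cfsg.Agent.Helper95.S18.Arith
import Cfsg.Agent.Helper95.S18.ZFix
import Cfsg.Agent.Helper95.S18.ZCard
import Cfsg.Agent.Helper95.S18.ZSyl2
import Cfsg.Agent.Helper95.S18.ZSyl3
import Cfsg.Agent.Helper95.S18.Image
import Cfsg.Agent.Helper95.S18.Link
import Cfsg.Agent.Helper95.S18.Nine
import Cfsg.Agent.Helper95.S18.NoFive
import Cfsg.Agent.Helper95.S18.Hyper

set_option autoImplicit false

namespace Cfsg.Agent.Helper95.S18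

/-- arithmetic: the number of Sylow 3-subgroups of the image is 136 -/
theorem n3_arith (m c n : ℕ) (hm : m = 8 ∨ m = 16) (hc : c ∣ 36) (hcn : c * n = 18 * 17 * m)
    (hn : n ∣ 136) (hmod : n % 3 = 1) : n = 136 := by
  have hc36 : c ≤ 36 := Nat.le_of_dvd (by norm_num) hc
  have hn136 : n ≤ 136 := Nat.le_of_dvd (by norm_num) hn
  rcases hm with rfl | rfl
  · interval_cases c <;> omega
  · interval_cases c <;> omega

/-- arithmetic: the 17-part of 136 resp. 153 is 17, which is not 1 modulo 5 resp. 19 -/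
theorem arith17 (a j r n : ℕ) (hrn : (r = 5 ∧ n = 136) ∨ (r = 19 ∧ n = 153))
    (hab : n = a * 17 ^ j) (ha : ¬ 17 ∣ a) (hb : 17 ^ j % r = 1) : False := by
  have hj : j < 2 := by
    by_contra hcon
    have hcon' : 2 ≤ j := by omega
    have h289 : 17 ^ 2 ∣ n := by
      rw [hab]; exact Dvd.dvd.mul_left (pow_dvd_pow 17 hcon') a
    rcases hrn with ⟨-, rfl⟩ | ⟨-, rfl⟩ <;> norm_num at h289
  interval_cases j
  · rw [pow_zero, mul_one] at hab
    apply ha
    rw [← hab]
    rcases hrn with ⟨-, rfl⟩ | ⟨-, rfl⟩ <;> norm_num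
  · rcases hrn with ⟨rfl, -⟩ | ⟨rfl, -⟩ <;> norm_num at hb

theorem main {G : Type*} [Group G] [Finite G] (hZ : Subgroup.center G = ⊥)
    (hNS : {c : ℕ | ∃ r : ℕ, r.Prime ∧ r ∣ Nat.card G ∧ c = Nat.card (Sylow r G)} =
      ({18, 136, 153} : Set ℕ)) :
    Nonempty (G ≃* Matrix.ProjectiveSpecialLinearGroup (Fin 2) (ZMod 17)) ∨
      Nonempty (G ≃* Matrix.ProjGenLinGroup (Fin 2) (ZMod 17)) := by
  classical
  obtain ⟨h18, h2, h3, hprimes, h5, h19⟩ := arith hNS
  have hZ18 : IsZ18 (phi G).range := isZ18_range h18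
  obtain ⟨m, hm16, hcard, -, -⟩ := hZ18.card_eq
  have hm17 : m < 17 := lt_of_le_of_lt (Nat.le_of_dvd (by norm_num) hm16) (by norm_num)
  -- the image is PSL₂(17) or PGL₂(17)
  haveI : Fintype (Sylow 17 G) := Fintype.ofFinite _
  have : MulAction.IsPretransitive ↥(phi G).range (Sylow 17 G) :=
    ⟨fun a b => by
      obtain ⟨h, hh, hab⟩ := hZ18.trans a b
      exact ⟨⟨h, hh⟩, hab⟩⟩
  have hα : Fintype.card (Sylow 17 G) = 17 + 1 := by
    rw [← Nat.card_eq_fintype_card, h18]
  have hS := Cfsg.Agent.S0732.result (p := 17) (d := m) (by norm_num) hα (phi G).range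
    (by rw [hcard]) hm17
  have hcases : (m = 16 ∧ Nonempty (↥(phi G).range ≃* Matrix.ProjGenLinGroup (Fin 2) (ZMod 17))) ∨
      (m = 8 ∧ Nonempty (↥(phi G).range ≃*
        Matrix.ProjectiveSpecialLinearGroup (Fin 2) (ZMod 17))) := by
    rcases hS with ⟨hd, he⟩ | ⟨hd, he⟩ | ⟨q, hq, h2q, -⟩
    · exact Or.inl ⟨by omega, he⟩
    · exact Or.inr ⟨by omega, he⟩
    · exfalso
      have hq5 : q < 5 := by
        by_contra hcon
        have : 2 ^ 5 ≤ 2 ^ q := Nat.pow_le_pow_right (by norm_num) (by omega)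
        omega
      interval_cases q <;> omega
  have hm : m = 8 ∨ m = 16 := by
    rcases hcases with ⟨h, -⟩ | ⟨h, -⟩
    · exact Or.inr h
    · exact Or.inl h
  have hx : ∃ x : ↥(phi G).range, orderOf x = 9 := by
    rcases hcases with ⟨-, ⟨e⟩⟩ | ⟨-, ⟨e⟩⟩
    · obtain ⟨y, hy⟩ := exists_orderOf_nine_pgl
      exact ⟨e.symm y, by rw [MulEquiv.orderOf_eq, hy]⟩
    · obtain ⟨y, hy⟩ := exists_orderOf_nine_psl
      exact ⟨e.symm y, by rw [MulEquiv.orderOf_eq, hy]⟩
  -- Sylow numbers of the image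
  have hn2 : Nat.card (Sylow 2 ↥(phi G).range) = 153 := hZ18.card_sylow_two m hm hcard
  have hsurj : Function.Surjective (phi G).rangeRestrict := (phi G).rangeRestrict_surjective
  have hn3 : Nat.card (Sylow 3 ↥(phi G).range) = 136 := by
    obtain ⟨R⟩ : Nonempty (Sylow 3 ↥(phi G).range) := inferInstance
    have hc := hZ18.card_normalizer_sylow_three_dvd m hm hcard hx R
    have hdvd : Nat.card (Sylow 3 ↥(phi G).range) ∣ 136 := by
      have := card_sylow_dvd_of_surjective (phi G).rangeRestrict hsurj 3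
      rwa [h3] at this
    have hmod : Nat.card (Sylow 3 ↥(phi G).range) % 3 = 1 := by
      have := card_sylow_modEq_one 3 ↥(phi G).range
      exact this
    have hidx : Nat.card (Sylow 3 ↥(phi G).range) =
        (Subgroup.normalizer ((R : Subgroup ↥(phi G).range) : Set ↥(phi G).range)).index :=
      R.card_eq_index_normalizer
    have hmul : Nat.card (Subgroup.normalizer ((R : Subgroup ↥(phi G).range) : Set ↥(phi G).range)) *
        Nat.card (Sylow 3 ↥(phi G).range) = 18 * 17 * m := by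
      rw [hidx, Subgroup.card_mul_index, hcard]
    exact n3_arith m _ _ hm hc hmul hdvd hmod
  -- the kernel normalises all Sylow subgroups
  have hker : ((phi G).rangeRestrict).ker = (phi G).ker := (phi G).ker_rangeRestrict
  have hK2 : ∀ S : Sylow 2 G, (phi G).ker ≤ Subgroup.normalizer ((S : Subgroup G) : Set G) := by
    intro S
    have := ker_le_normalizer_of_card_sylow_eq (phi G).rangeRestrict hsurj 2 (by rw [hn2, h2]) S
    rwa [hker] at this
  have hK3 : ∀ S : Sylow 3 G, (phi G).ker ≤ Subgroup.normalizer ((S : Subgroup G) : Set G) := by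
    intro S
    have := ker_le_normalizer_of_card_sylow_eq (phi G).rangeRestrict hsurj 3 (by rw [hn3, h3]) S
    rwa [hker] at this
  -- the index of the kernel
  have hindex : (phi G).ker.index = 18 * 17 * m := by
    rw [Subgroup.index_ker, hcard]
  -- 5 and 19 do not divide the order
  have hno5 : ¬ 5 ∣ Nat.card G := by
    intro hdvd
    have hr : ¬ 5 ∣ (phi G).ker.index := by
      rw [hindex]; rcases hm with rfl | rfl <;> norm_num
    obtain ⟨a, b, j, hab, ha, hb, hj⟩ := sylow_count_17part h18 5 hr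
    rw [h5 hdvd] at hab
    subst hj
    exact arith17 a j 5 136 (Or.inl ⟨rfl, rfl⟩) hab ha hb
  have hno19 : ¬ 19 ∣ Nat.card G := by
    intro hdvd
    have hr : ¬ 19 ∣ (phi G).ker.index := by
      rw [hindex]; rcases hm with rfl | rfl <;> norm_num
    obtain ⟨a, b, j, hab, ha, hb, hj⟩ := sylow_count_17part h18 19 hr
    rw [h19 hdvd] at hab
    subst hj
    exact arith17 a j 19 153 (Or.inr ⟨rfl, rfl⟩) hab ha hb
  -- the kernel is trivial
  have hKbot : (phi G).ker = ⊥ := by
    apply eq_bot_of_le_normalizer_sylow hZ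
    intro p hp P
    by_cases hpG : p ∣ Nat.card G
    · rcases hprimes p hp.out hpG with rfl | rfl | rfl | rfl | rfl
      · exact hK2 P
      · exact hK3 P
      · exact absurd hpG hno5
      · exact ker_le_normalizer P
      · exact absurd hpG hno19
    · have hP : (P : Subgroup G) = ⊥ := by
        have h1 : Nat.card (P : Subgroup G) = 1 := by
          rw [P.card_eq_multiplicity, Nat.factorization_eq_zero_of_not_dvd hpG, pow_zero]
        exact Subgroup.card_eq_one.mp h1
      rw [hP]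
      intro x _
      rw [Subgroup.mem_normalizer_iff]
      intro y
      simp [Subgroup.mem_bot]
  have hinj : Function.Injective (phi G) := (MonoidHom.ker_eq_bot_iff _).mp hKbot
  have e0 : G ≃* ↥(phi G).range := MonoidHom.ofInjective hinj
  rcases hcases with ⟨-, ⟨e⟩⟩ | ⟨-, ⟨e⟩⟩
  · exact Or.inr ⟨e0.trans e⟩
  · exact Or.inl ⟨e0.trans e⟩

end Cfsg.Agent.Helper95.S18
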